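import Groth.Agent.K0Res3.Kernels
import Groth.Prelude.Def_KZero
import Mathlib.CategoryTheory.ObjectProperty.ClosedUnderIsomorphisms
import Mathlib.CategoryTheory.Abelian.Exact

/-! The resolution theorem for the Grothendieck group. -/

set_option autoImplicit false

open CategoryTheory CategoryTheory.Category CategoryTheory.Limits

namespace Groth.Agent.K0Res3

universe v u

variable {C : Type u} [Category.{v} C] [Abelian C] {P₀ P₁ : ObjectProperty C}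

/-- The hypotheses of the resolution theorem. -/
structure Hyp (P₀ P₁ : ObjectProperty C) : Prop where
  iso₀ : P₀.IsClosedUnderIsomorphisms
  iso₁ : P₁.IsClosedUnderIsomorphisms
  le : ∀ X, P₀ X → P₁ X
  ext₀ : ∀ S : ShortComplex C, S.ShortExact → P₀ S.X₁ → P₀ S.X₃ → P₀ S.X₂
  ker₀ : ∀ S : ShortComplex C, S.ShortExact → P₀ S.X₂ → P₀ S.X₃ → P₀ S.X₁
  ker₁ : ∀ S : ShortComplex C, S.ShortExact → P₁ S.X₂ → P₁ S.X₃ → P₁ S.X₁
  lift : ∀ (A B D : C) (u : A ⟶ B) (v : D ⟶ B), Epi u → P₁ A → P₁ B → P₁ D →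
    ∃ (L : C) (u' : L ⟶ D) (v' : L ⟶ A), P₀ L ∧ Epi u' ∧ u' ≫ v = v' ≫ u
  fin : ∀ A : C, P₁ A → ∃ d : ℕ, ∀ L : ChainComplex C ℕ, (∀ i, P₀ (L.X i)) → (∀ i, 1 ≤ i → L.ExactAt i) →
    Nonempty (L.homology 0 ≅ A) → P₀ (L.cycles (d + 1))

/-- The class in the Grothendieck group of `P₀`. -/
noncomputable abbrev cls (P₀ : ObjectProperty C) (X : C) : KZero.K0sub P₀ := KZero.clSub P₀ X

theorem cls_eq {P : ObjectProperty C} {X : C} (h : P X) :
    cls P X = QuotientAddGroup.mk (FreeAbelianGroup.of ⟨X, h⟩) := dif_pos h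

theorem cls_add {P : ObjectProperty C} (S : ShortComplex C) (hS : S.ShortExact) (h₁ : P S.X₁) (h₂ : P S.X₂)
    (h₃ : P S.X₃) : cls P S.X₂ = cls P S.X₁ + cls P S.X₃ := by
  rw [cls_eq h₁, cls_eq h₂, cls_eq h₃, ← sub_eq_zero, ← sub_sub, ← QuotientAddGroup.mk_sub,
    ← QuotientAddGroup.mk_sub, QuotientAddGroup.eq_zero_iff]
  exact AddSubgroup.subset_closure ⟨S, h₁, h₂, h₃, hS, rfl⟩

/-- The sequence of an epimorphism and its kernel. -/
noncomputable abbrev epiSeq {L A : C} (p : L ⟶ A) : ShortComplex C :=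
  ShortComplex.mk (kernel.ι p) p (kernel.condition p)

theorem epiSeq_shortExact {L A : C} (p : L ⟶ A) [Epi p] : (epiSeq p).ShortExact :=
  { exact := ShortComplex.exact_of_f_is_kernel _ (kernelIsKernel p) }

theorem shortExact_of_isIso {A B : C} (f : A ⟶ B) [IsIso f] :
    (ShortComplex.mk f (cokernel.π f) (cokernel.condition f)).ShortExact :=
  { exact := ShortComplex.exact_of_g_is_cokernel _ (cokernelIsCokernel f) }

variable (P₀) in
/-- Dimension at most `n` with respect to `P₀`. -/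
def Dim : ℕ → C → Prop
  | 0, A => P₀ A
  | n + 1, A => ∀ (L : C) (p : L ⟶ A), Epi p → P₀ L → Dim n (kernel p)

namespace Hyp

variable (h : Hyp P₀ P₁)
include h

theorem exists_cover {A : C} (hA : P₁ A) : ∃ (L : C) (p : L ⟶ A), P₀ L ∧ Epi p := by
  obtain ⟨L, u', -, hL, hu, -⟩ := h.lift A A A (𝟙 A) (𝟙 A) inferInstance hA hA hA
  exact ⟨L, u', hL, hu⟩

theorem kernel₁ {L A : C} (p : L ⟶ A) [Epi p] (hL : P₁ L) (hA : P₁ A) : P₁ (kernel p) :=
  h.ker₁ _ (epiSeq_shortExact p) hL hA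

theorem kernel₀ {L A : C} (p : L ⟶ A) [Epi p] (hL : P₀ L) (hA : P₀ A) : P₀ (kernel p) :=
  h.ker₀ _ (epiSeq_shortExact p) hL hA

theorem of_isZero₀ {A Z : C} (hA : P₁ A) (hZ : IsZero Z) : P₀ Z := by
  obtain ⟨L, p, hL, -⟩ := h.exists_cover hA
  haveI := h.iso₀
  exact P₀.prop_of_iso (hZ.iso (isZero_kernel_of_mono (𝟙 L))).symm (h.kernel₀ (𝟙 L) hL hL)

theorem dim_iso : ∀ (n : ℕ) {A B : C}, (A ≅ B) → Dim P₀ n A → Dim P₀ n B
  | 0, _, _, e, hA => by haveI := h.iso₀; exact P₀.prop_of_iso e hA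
  | n + 1, _, _, e, hA => fun L p hp hL => by
    haveI := hp
    exact dim_iso n (kernelCompMono p e.inv) (hA L (p ≫ e.inv) (epi_comp p e.inv) hL)

theorem dim_succ : ∀ (n : ℕ) {A : C}, Dim P₀ n A → Dim P₀ (n + 1) A
  | 0, _, hA => fun L p hp hL => h.kernel₀ p hL hA
  | n + 1, _, hA => fun L p hp hL => dim_succ n (hA L p hp hL)

theorem dim_le {n N : ℕ} (hn : n ≤ N) {A : C} (hA : Dim P₀ n A) : Dim P₀ N A := by
  induction hn with
  | refl => exact hA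
  | step _ ih => exact h.dim_succ _ ih

theorem exists_steps {A : C} (hA : P₁ A) : ∃ D : Steps P₀, D.K 0 = A := by
  let next : {X : C // P₁ X} → {X : C // P₁ X} := fun X =>
    haveI := (h.exists_cover X.2).choose_spec.choose_spec.2
    ⟨kernel (h.exists_cover X.2).choose_spec.choose,
      h.kernel₁ _ (h.le _ (h.exists_cover X.2).choose_spec.choose_spec.1) X.2⟩
  let seq : ℕ → {X : C // P₁ X} := fun n => Nat.rec (⟨A, hA⟩ : {X : C // P₁ X}) (fun _ X => next X) n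
  exact ⟨{ K := fun n => (seq n).1
           L := fun n => (h.exists_cover (seq n).2).choose
           mem := fun n => (h.exists_cover (seq n).2).choose_spec.choose_spec.1
           ι := fun n => kernel.ι (h.exists_cover (seq n).2).choose_spec.choose
           p := fun n => (h.exists_cover (seq n).2).choose_spec.choose
           w := fun n => kernel.condition _
           shortExact := fun n =>
             haveI := (h.exists_cover (seq n).2).choose_spec.choose_spec.2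
             epiSeq_shortExact _ }, rfl⟩

theorem dim_of_forall_steps : ∀ (m : ℕ) {A : C}, P₁ A →
    (∀ D : Steps P₀, Nonempty (D.K 0 ≅ A) → P₀ (D.K m)) → Dim P₀ m A
  | 0, A, hA, H => by
    obtain ⟨D, hD⟩ := h.exists_steps hA
    haveI := h.iso₀
    exact P₀.prop_of_iso (eqToIso hD) (H D ⟨eqToIso hD⟩)
  | m + 1, A, hA, H => fun L p hp hL => by
    refine dim_of_forall_steps m (h.kernel₁ p (h.le _ hL) hA) fun D ⟨e⟩ => ?_
    exact H (D.cons hL p e) ⟨Iso.refl A⟩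

theorem exists_dim {A : C} (hA : P₁ A) : ∃ n, Dim P₀ n A := by
  obtain ⟨d, hd⟩ := h.fin A hA
  refine ⟨d + 2, h.dim_of_forall_steps _ hA fun D ⟨e⟩ => ?_⟩
  obtain ⟨e0⟩ := D.nonempty_homologyIso
  obtain ⟨ec⟩ := D.nonempty_cyclesIso d
  haveI := h.iso₀
  refine P₀.prop_of_iso ec (hd D.complex D.mem (fun i hi => ?_) ⟨e0 ≪≫ e⟩)
  obtain ⟨i, rfl⟩ : ∃ k, i = k + 1 := ⟨i - 1, by omega⟩
  exact D.exactAt i

omit h

open Classical in
/-- A chosen cover. -/
noncomputable def cover (h : Hyp P₀ P₁) (A : C) : Σ L : C, (L ⟶ A) :=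
  if hA : P₁ A then ⟨(h.exists_cover hA).choose, (h.exists_cover hA).choose_spec.choose⟩ else ⟨A, 𝟙 A⟩

theorem cover_spec (h : Hyp P₀ P₁) {A : C} (hA : P₁ A) : P₀ (h.cover A).1 ∧ Epi (h.cover A).2 := by
  rw [cover, dif_pos hA]
  exact (h.exists_cover hA).choose_spec.choose_spec

/-- The Euler characteristic of a resolution of length `n`. -/
noncomputable def chi (h : Hyp P₀ P₁) : ℕ → C → KZero.K0sub P₀
  | 0, A => cls P₀ A
  | n + 1, A => cls P₀ (h.cover A).1 - chi h n (kernel (h.cover A).2)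

/-- Additivity in dimension `n`. -/
def Add (h : Hyp P₀ P₁) (n : ℕ) : Prop :=
  ∀ S : ShortComplex C, S.ShortExact → P₁ S.X₁ → P₁ S.X₂ → P₁ S.X₃ →
    Dim P₀ n S.X₁ → Dim P₀ n S.X₂ → Dim P₀ n S.X₃ → h.chi n S.X₂ = h.chi n S.X₁ + h.chi n S.X₃

theorem chi_zero_of_isZero (h : Hyp P₀ P₁) {n : ℕ} (hadd : h.Add n) {A Z : C} (hA : P₁ A) (hZ : IsZero Z) :
    h.chi n Z = 0 := by
  have hS : (ShortComplex.mk (0 : Z ⟶ Z) (0 : Z ⟶ Z) comp_zero).ShortExact :=
    { exact := ShortComplex.exact_of_isZero_X₂ _ hZ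
      mono_f := hZ.mono _
      epi_g := hZ.epi _ }
  have h0 := h.of_isZero₀ hA hZ
  have hd : Dim P₀ n Z := h.dim_le (Nat.zero_le n) h0
  exact left_eq_add.mp (hadd _ hS (h.le _ h0) (h.le _ h0) (h.le _ h0) hd hd hd)

theorem chi_iso (h : Hyp P₀ P₁) {n : ℕ} (hadd : h.Add n) {A B : C} (e : A ≅ B) (hA : P₁ A)
    (hd : Dim P₀ n A) : h.chi n B = h.chi n A := by
  have hz : IsZero (cokernel e.hom) := isZero_cokernel_of_epi e.hom
  have hZ := h.of_isZero₀ hA hz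
  haveI := h.iso₁
  have := hadd _ (shortExact_of_isIso e.hom) hA (P₁.prop_of_iso e hA) (h.le _ hZ) hd (h.dim_iso n e hd)
    (h.dim_le (Nat.zero_le n) hZ)
  rw [h.chi_zero_of_isZero hadd hA hz, add_zero] at this
  exact this

theorem add_zero_dim (h : Hyp P₀ P₁) : h.Add 0 :=
  fun S hS _ _ _ d₁ d₂ d₃ => cls_add S hS d₁ d₂ d₃

theorem chi_succ_of_mem (h : Hyp P₀ P₁) {A : C} (hA : P₀ A) : h.chi 1 A = h.chi 0 A := by
  obtain ⟨hL, hp⟩ := h.cover_spec (h.le _ hA)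
  show cls P₀ (h.cover A).1 - cls P₀ (kernel (h.cover A).2) = cls P₀ A
  rw [sub_eq_iff_eq_add']
  exact cls_add (epiSeq (h.cover A).2) (epiSeq_shortExact _) (h.kernel₀ _ hL hA) hL hA

theorem chi_succ (h : Hyp P₀ P₁) : ∀ (n : ℕ) {A : C}, P₁ A → Dim P₀ n A → h.chi (n + 1) A = h.chi n A
  | 0, _, _, hA => h.chi_succ_of_mem hA
  | n + 1, A, hA, hd => by
    obtain ⟨hL, hp⟩ := h.cover_spec hA
    show cls P₀ (h.cover A).1 - h.chi (n + 1) (kernel (h.cover A).2) = _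
    rw [chi_succ h n (h.kernel₁ _ (h.le _ hL) hA) (hd _ _ hp hL)]
    rfl

theorem chi_le (h : Hyp P₀ P₁) {n N : ℕ} (hn : n ≤ N) {A : C} (hA : P₁ A) (hd : Dim P₀ n A) :
    h.chi N A = h.chi n A := by
  induction hn with
  | refl => rfl
  | step hle ih => rw [h.chi_succ _ hA (h.dim_le hle hd), ih]

theorem compare (h : Hyp P₀ P₁) {n : ℕ} (hadd : h.Add n) {A L M : C} (hA : P₁ A) (hd : Dim P₀ (n + 1) A)
    (p : L ⟶ A) [Epi p] (r : M ⟶ L) [Epi r] (q : M ⟶ A) (hq : r ≫ p = q) (hL : P₀ L) (hM : P₀ M) :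
    cls P₀ M - h.chi n (kernel q) = cls P₀ L - h.chi n (kernel p) := by
  haveI := h.iso₀
  subst hq
  let Z : C := kernel (𝟙 A)
  have hZ : IsZero Z := isZero_kernel_of_mono (𝟙 A)
  have hT : (ShortComplex.mk (0 : Z ⟶ A) (𝟙 A) zero_comp).ShortExact :=
    { exact := (ShortComplex.exact_iff_mono _ rfl).mpr (inferInstanceAs (Mono (𝟙 A)))
      mono_f := hZ.mono _ }
  let φ : epiSeq r ⟶ ShortComplex.mk (0 : Z ⟶ A) (𝟙 A) zero_comp :=
    ShortComplex.homMk 0 (r ≫ p) p (by simp [epiSeq]) (by simp [epiSeq])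
  haveI : Epi φ.τ₁ := hZ.epi _
  have hex := kerSeq_shortExact φ (epiSeq_shortExact r) hT
  have hk : P₀ (kernel r) := h.kernel₀ r hM hL
  have hk' : P₀ (kernel φ.τ₁) := P₀.prop_of_iso (kernelZeroIsoSource (X := kernel r) (Y := Z)).symm hk
  haveI : Epi (r ≫ p) := epi_comp r p
  have hM' := hadd (kerSeq φ) hex (h.le _ hk') (h.kernel₁ (r ≫ p) (h.le _ hM) hA)
    (h.kernel₁ p (h.le _ hL) hA) (h.dim_le (Nat.zero_le n) hk') (hd M (r ≫ p) inferInstance hM)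
    (hd L p inferInstance hL)
  have hc : h.chi n (kerSeq φ).X₁ = cls P₀ (kernel r) := by
    show h.chi n (kernel φ.τ₁) = _
    refine ((h.chi_iso hadd (kernelZeroIsoSource (X := kernel r) (Y := Z)) (h.le _ hk')
      (h.dim_le (Nat.zero_le n) hk')).symm).trans ?_
    rw [h.chi_le (Nat.zero_le n) (h.le _ hk) hk]
    rfl
  rw [hc] at hM'
  rw [show h.chi n (kernel (r ≫ p)) = _ from hM',
    show cls P₀ M = _ from cls_add (epiSeq r) (epiSeq_shortExact r) hk hM hL]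
  show cls P₀ (kernel r) + cls P₀ L - (cls P₀ (kernel r) + h.chi n (kernel p)) = _
  abel

theorem biprod₀ (h : Hyp P₀ P₁) {L L' : C} (hL : P₀ L) (hL' : P₀ L') : P₀ (L ⊞ L') :=
  h.ext₀ _ (ShortComplex.Splitting.ofHasBinaryBiproduct L L').shortExact hL hL'

theorem independent (h : Hyp P₀ P₁) {n : ℕ} (hadd : h.Add n) {A : C} (hA : P₁ A) (hd : Dim P₀ (n + 1) A)
    {L : C} (p : L ⟶ A) [Epi p] (hL : P₀ L) : h.chi (n + 1) A = cls P₀ L - h.chi n (kernel p) := by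
  obtain ⟨hL₁, hp₁⟩ := h.cover_spec hA
  set L₁ := (h.cover A).1 with hL₁def
  set p₁ := (h.cover A).2 with hp₁def
  let d : L₁ ⊞ L ⟶ A := biprod.desc p₁ p
  haveI : Epi d := by
    have : Epi (biprod.inr ≫ d) := by rw [biprod.inr_desc]; infer_instance
    exact epi_of_epi biprod.inr d
  obtain ⟨M, c, hM, hc⟩ := h.exists_cover (h.kernel₁ d (h.le _ (h.biprod₀ hL₁ hL)) hA)
  let r₁ : M ⟶ L₁ := c ≫ kernel.ι d ≫ biprod.fst
  let r₂ : M ⟶ L := -(c ≫ kernel.ι d ≫ biprod.snd)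
  have e : r₁ ≫ p₁ = r₂ ≫ p := by
    rw [← sub_eq_zero]
    simp only [r₁, r₂, Preadditive.neg_comp, sub_neg_eq_add, assoc, ← Preadditive.comp_add]
    rw [← biprod.desc_eq, kernel.condition, comp_zero]
  have surj : ∀ {A' : C} (x : A' ⟶ L₁ ⊞ L), x ≫ d = 0 → ∃ (A'' : C) (π : A'' ⟶ A') (_ : Epi π) (y : A'' ⟶ M),
      π ≫ x = y ≫ c ≫ kernel.ι d := by
    intro A' x hx
    obtain ⟨A'', π, hπ, y, hy⟩ := surjective_up_to_refinements_of_epi c (kernel.lift d x hx)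
    exact ⟨A'', π, hπ, y, by rw [← reassoc_of% hy, kernel.lift_ι]⟩
  haveI : Epi r₁ := by
    rw [epi_iff_surjective_up_to_refinements]
    intro A' x
    obtain ⟨A₁, π, hπ, y, hy⟩ := surjective_up_to_refinements_of_epi p (x ≫ p₁)
    obtain ⟨A₂, π', hπ', z, hz⟩ := surj (biprod.lift (π ≫ x) (-y)) (by
      rw [biprod.lift_desc, Preadditive.neg_comp, assoc, hy, add_neg_cancel])
    exact ⟨A₂, π' ≫ π, inferInstance, z, by
      have := congrArg (fun t => t ≫ biprod.fst) hz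
      simpa [r₁, assoc] using this⟩
  haveI : Epi r₂ := by
    rw [epi_iff_surjective_up_to_refinements]
    intro A' x
    obtain ⟨A₁, π, hπ, y, hy⟩ := surjective_up_to_refinements_of_epi p₁ (x ≫ p)
    obtain ⟨A₂, π', hπ', z, hz⟩ := surj (biprod.lift y (-(π ≫ x))) (by
      rw [biprod.lift_desc, Preadditive.neg_comp, assoc, hy, add_neg_cancel])
    exact ⟨A₂, π' ≫ π, inferInstance, z, by
      have := congrArg (fun t => t ≫ biprod.snd) hz
      simp only [assoc, biprod.lift_snd, Preadditive.comp_neg] at this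
      simp only [r₂, Preadditive.comp_neg, assoc, ← this, neg_neg]⟩
  haveI : Epi p₁ := hp₁
  show cls P₀ L₁ - h.chi n (kernel p₁) = _
  rw [← h.compare hadd hA hd p₁ r₁ (r₁ ≫ p₁) rfl hL₁ hM, ← h.compare hadd hA hd p r₂ (r₁ ≫ p₁) e.symm hL hM]

theorem add_succ (h : Hyp P₀ P₁) {n : ℕ} (hadd : h.Add n) : h.Add (n + 1) := by
  intro S hS h₁ h₂ h₃ d₁ d₂ d₃
  haveI := hS.mono_f
  haveI := hS.epi_g
  obtain ⟨L₃, p₃, hL₃, hp₃⟩ := h.exists_cover h₃
  obtain ⟨L₁, p₁, hL₁, hp₁⟩ := h.exists_cover h₁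
  obtain ⟨L, u', v', hL, hu, huv⟩ := h.lift S.X₂ S.X₃ L₃ S.g p₃ inferInstance h₂ h₃ (h.le _ hL₃)
  let L₂ := L ⊞ L₁
  have hL₂ : P₀ L₂ := h.biprod₀ hL hL₁
  let p₂ : L₂ ⟶ S.X₂ := biprod.desc v' (p₁ ≫ S.f)
  let gL : L₂ ⟶ L₃ := biprod.desc u' 0
  haveI : Epi gL := by
    have : Epi (biprod.inl ≫ gL) := by rw [biprod.inl_desc]; exact hu
    exact epi_of_epi biprod.inl gL
  have hcomm : gL ≫ p₃ = p₂ ≫ S.g := by
    ext <;> simp [gL, p₂, huv]
  haveI : Epi p₂ := by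
    rw [epi_iff_surjective_up_to_refinements]
    intro A' x
    obtain ⟨A₁, π, hπ, y, hy⟩ := surjective_up_to_refinements_of_epi p₃ (x ≫ S.g)
    obtain ⟨A₂, π', hπ', z, hz⟩ := surjective_up_to_refinements_of_epi u' y
    obtain ⟨A₃, π'', hπ'', w, hw⟩ := hS.exact.exact_up_to_refinements (π' ≫ π ≫ x - z ≫ v') (by
      rw [Preadditive.sub_comp, assoc, assoc, assoc, ← huv, ← assoc z, ← hz, assoc, hy, sub_self])
    obtain ⟨A₄, π₃, hπ₃, t, ht⟩ := surjective_up_to_refinements_of_epi p₁ w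
    refine ⟨A₄, π₃ ≫ π'' ≫ π' ≫ π, inferInstance, biprod.lift (π₃ ≫ π'' ≫ z) t, ?_⟩
    simp only [p₂, biprod.lift_desc, assoc]
    rw [← assoc t, ← ht, assoc, ← hw, Preadditive.comp_sub, Preadditive.comp_sub]
    abel
  let τ₁ : kernel gL ⟶ S.X₁ := hS.exact.lift (kernel.ι gL ≫ p₂) (by
    rw [assoc, ← hcomm, ← assoc, kernel.condition, zero_comp])
  have hτ : τ₁ ≫ S.f = kernel.ι gL ≫ p₂ := hS.exact.lift_f _ _
  let σ : L₁ ⟶ kernel gL := kernel.lift gL biprod.inr (by simp [gL])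
  haveI : Epi τ₁ := by
    have : σ ≫ τ₁ = p₁ := by
      rw [← cancel_mono S.f, assoc, hτ, kernel.lift_ι_assoc, biprod.inr_desc]
    have : Epi (σ ≫ τ₁) := by rw [this]; exact hp₁
    exact epi_of_epi σ τ₁
  let φ : epiSeq gL ⟶ S := ShortComplex.homMk τ₁ p₂ p₃ hτ hcomm.symm
  haveI : Epi φ.τ₁ := ‹Epi τ₁›
  have hex := kerSeq_shortExact φ (epiSeq_shortExact gL) hS
  have hk : P₀ (kernel gL) := h.kernel₀ gL hL₂ hL₃
  have hcl : cls P₀ L₂ = cls P₀ (kernel gL) + cls P₀ L₃ := cls_add (epiSeq gL) (epiSeq_shortExact gL) hk hL₂ hL₃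
  have hK : h.chi n (kernel p₂) = h.chi n (kernel τ₁) + h.chi n (kernel p₃) :=
    hadd (kerSeq φ) hex (h.kernel₁ τ₁ (h.le _ hk) h₁) (h.kernel₁ p₂ (h.le _ hL₂) h₂)
      (h.kernel₁ p₃ (h.le _ hL₃) h₃) (d₁ _ τ₁ inferInstance hk) (d₂ _ p₂ inferInstance hL₂)
      (d₃ _ p₃ inferInstance hL₃)
  rw [h.independent hadd h₂ d₂ p₂ hL₂, h.independent hadd h₁ d₁ τ₁ hk, h.independent hadd h₃ d₃ p₃ hL₃,
    hcl, hK]
  abel

theorem add_all (h : Hyp P₀ P₁) : ∀ n, h.Add n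
  | 0 => h.add_zero_dim
  | n + 1 => h.add_succ (add_all h n)

open Classical in
/-- The dimension. -/
noncomputable def dim (h : Hyp P₀ P₁) (A : Subtype P₁) : ℕ := Nat.find (h.exists_dim A.2)

open Classical in
theorem dim_spec (h : Hyp P₀ P₁) (A : Subtype P₁) : Dim P₀ (h.dim A) A.1 := Nat.find_spec (h.exists_dim A.2)

/-- The inverse homomorphism. -/
noncomputable def inv (h : Hyp P₀ P₁) : KZero.K0sub P₁ →+ KZero.K0sub P₀ :=
  QuotientAddGroup.lift _ (FreeAbelianGroup.lift fun A : Subtype P₁ => h.chi (h.dim A) A.1) (by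
    refine (AddSubgroup.closure_le _).2 ?_
    rintro _ ⟨S, h₁, h₂, h₃, hS, rfl⟩
    simp only [SetLike.mem_coe, AddMonoidHom.mem_ker, map_sub, FreeAbelianGroup.lift_apply_of]
    let N := max (h.dim ⟨_, h₁⟩) (max (h.dim ⟨_, h₂⟩) (h.dim ⟨_, h₃⟩))
    rw [← h.chi_le (N := N) (le_max_of_le_right (le_max_left _ _)) h₂ (h.dim_spec ⟨_, h₂⟩),
      ← h.chi_le (N := N) (le_max_left _ _) h₁ (h.dim_spec ⟨_, h₁⟩),
      ← h.chi_le (N := N) (le_max_of_le_right (le_max_right _ _)) h₃ (h.dim_spec ⟨_, h₃⟩),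
      h.add_all N S hS h₁ h₂ h₃ (h.dim_le (le_max_left _ _) (h.dim_spec ⟨_, h₁⟩))
        (h.dim_le (le_max_of_le_right (le_max_left _ _)) (h.dim_spec ⟨_, h₂⟩))
        (h.dim_le (le_max_of_le_right (le_max_right _ _)) (h.dim_spec ⟨_, h₃⟩))]
    abel)

theorem inv_of (h : Hyp P₀ P₁) (A : Subtype P₁) :
    h.inv (QuotientAddGroup.mk (FreeAbelianGroup.of A)) = h.chi (h.dim A) A.1 := by
  exact (QuotientAddGroup.lift_mk _ _ _).trans (FreeAbelianGroup.lift_apply_of _ _)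

theorem bijective_of (h : Hyp P₀ P₁) (ι : KZero.K0sub P₀ →+ KZero.K0sub P₁)
    (hι : ∀ X, P₀ X → ι (cls P₀ X) = cls P₁ X) : Function.Bijective ι := by
  have hleft : h.inv.comp ι = AddMonoidHom.id _ := by
    refine QuotientAddGroup.addMonoidHom_ext _ (FreeAbelianGroup.lift_ext _ _ fun X => ?_)
    show h.inv (ι (QuotientAddGroup.mk (FreeAbelianGroup.of X))) = QuotientAddGroup.mk (FreeAbelianGroup.of X)
    rw [← cls_eq X.2, hι _ X.2, cls_eq (h.le _ X.2), inv_of]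
    show h.chi _ X.1 = cls P₀ X.1
    rw [← h.chi_le (Nat.le_max_left _ 0) (h.le _ X.2) (h.dim_spec _),
      h.chi_le (Nat.le_max_right _ 0) (h.le _ X.2) X.2]
    rfl
  have hchi : ∀ (n : ℕ) (A : C), P₁ A → Dim P₀ n A → ι (h.chi n A) = cls P₁ A := by
    intro n
    induction n with
    | zero => exact fun A _ hd => hι A hd
    | succ n ih =>
      intro A hA hd
      obtain ⟨hL, hp⟩ := h.cover_spec hA
      show ι (cls P₀ _ - h.chi n _) = _
      rw [map_sub, hι _ hL, ih _ (h.kernel₁ _ (h.le _ hL) hA) (hd _ _ hp hL), sub_eq_iff_eq_add']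
      exact cls_add (epiSeq (h.cover A).2) (epiSeq_shortExact _) (h.kernel₁ _ (h.le _ hL) hA) (h.le _ hL) hA
  have hright : ι.comp h.inv = AddMonoidHom.id _ := by
    refine QuotientAddGroup.addMonoidHom_ext _ (FreeAbelianGroup.lift_ext _ _ fun X => ?_)
    show ι (h.inv (QuotientAddGroup.mk (FreeAbelianGroup.of X))) = _
    rw [inv_of, hchi _ _ X.2 (h.dim_spec X), cls_eq X.2]
    rfl
  exact ⟨fun a b hab => by
      rw [← AddMonoidHom.id_apply _ a, ← AddMonoidHom.id_apply _ b, ← hleft]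
      exact congrArg h.inv hab,
    fun b => ⟨h.inv b, DFunLike.congr_fun hright b⟩⟩

end Hyp

end Groth.Agent.K0Res3
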