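import Mathlib.CategoryTheory.Abelian.Refinements
import Mathlib.Algebra.Homology.ShortComplex.ShortExact
import Mathlib.Algebra.Homology.HomologicalComplexAbelian
import Mathlib.Algebra.Homology.ShortComplex.HomologicalComplex
import Mathlib.CategoryTheory.Abelian.Basic

/-! Kernels of a morphism of short exact sequences, and complexes from step data. -/

set_option autoImplicit false

open CategoryTheory CategoryTheory.Category CategoryTheory.Limits

namespace Groth.Agent.K0Res3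

universe v u

variable {C : Type u} [Category.{v} C] [Abelian C]

/-- The complex of kernels of a morphism of short complexes. -/
noncomputable def kerSeq {S T : ShortComplex C} (φ : S ⟶ T) : ShortComplex C :=
  ShortComplex.mk (kernel.map φ.τ₁ φ.τ₂ S.f T.f φ.comm₁₂) (kernel.map φ.τ₂ φ.τ₃ S.g T.g φ.comm₂₃)
    (by rw [← cancel_mono (kernel.ι φ.τ₃)]; simp)

theorem kerSeq_shortExact {S T : ShortComplex C} (φ : S ⟶ T) (hS : S.ShortExact) (hT : T.ShortExact)
    [Epi φ.τ₁] : (kerSeq φ).ShortExact := by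
  have := hS.mono_f
  have := hS.epi_g
  have := hT.mono_f
  have hf : Mono (kerSeq φ).f := by
    show Mono (kernel.map φ.τ₁ φ.τ₂ S.f T.f φ.comm₁₂)
    have : Mono (kernel.map φ.τ₁ φ.τ₂ S.f T.f φ.comm₁₂ ≫ kernel.ι φ.τ₂) := by
      rw [kernel.lift_ι]
      exact mono_comp (kernel.ι φ.τ₁) S.f
    exact mono_of_mono _ (kernel.ι φ.τ₂)
  have hg : Epi (kerSeq φ).g := by
    show Epi (kernel.map φ.τ₂ φ.τ₃ S.g T.g φ.comm₂₃)
    rw [epi_iff_surjective_up_to_refinements]
    intro A x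
    obtain ⟨A₁, π, hπ, y, hy⟩ := surjective_up_to_refinements_of_epi S.g (x ≫ kernel.ι φ.τ₃)
    have h0 : (y ≫ φ.τ₂) ≫ T.g = 0 := by
      rw [assoc, φ.comm₂₃, ← assoc, ← hy, assoc, assoc, kernel.condition, comp_zero, comp_zero]
    obtain ⟨A₂, π', hπ', z, hz⟩ := hT.exact.exact_up_to_refinements (y ≫ φ.τ₂) h0
    obtain ⟨A₃, π'', hπ'', w, hw⟩ := surjective_up_to_refinements_of_epi φ.τ₁ z
    refine ⟨A₃, π'' ≫ π' ≫ π, inferInstance, kernel.lift φ.τ₂ (π'' ≫ π' ≫ y - w ≫ S.f) ?_, ?_⟩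
    · rw [Preadditive.sub_comp, assoc, assoc, assoc, hz, ← φ.comm₁₂, ← assoc w, ← hw, assoc, sub_self]
    · rw [← cancel_mono (kernel.ι φ.τ₃)]
      simp only [assoc, kernel.lift_ι, kernel.lift_ι_assoc]
      rw [Preadditive.sub_comp, assoc, assoc, assoc, S.zero, comp_zero, sub_zero, ← hy]
  have hex : (kerSeq φ).Exact := by
    rw [ShortComplex.exact_iff_exact_up_to_refinements]
    intro A (x : A ⟶ kernel φ.τ₂) (hx : x ≫ kernel.map φ.τ₂ φ.τ₃ S.g T.g φ.comm₂₃ = 0)
    show ∃ (A' : C) (π : A' ⟶ A) (_ : Epi π) (x₁ : A' ⟶ kernel φ.τ₁),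
      π ≫ x = x₁ ≫ kernel.map φ.τ₁ φ.τ₂ S.f T.f φ.comm₁₂
    have h0 : (x ≫ kernel.ι φ.τ₂) ≫ S.g = 0 := by
      have := congrArg (fun t => t ≫ kernel.ι φ.τ₃) hx
      simpa using this
    obtain ⟨A₁, π, hπ, y, hy⟩ := hS.exact.exact_up_to_refinements _ h0
    refine ⟨A₁, π, hπ, kernel.lift φ.τ₁ y ?_, ?_⟩
    · rw [← cancel_mono T.f, assoc, φ.comm₁₂, ← assoc, ← hy, assoc, assoc, kernel.condition, comp_zero,
        comp_zero, zero_comp]
    · rw [← cancel_mono (kernel.ι φ.τ₂)]
      simp only [assoc, kernel.lift_ι, kernel.lift_ι_assoc]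
      exact hy
  exact { exact := hex, mono_f := hf, epi_g := hg }

/-- Step data: epimorphisms from objects of `P₀` with the kernels. -/
structure Steps (P₀ : ObjectProperty C) : Type (max u v) where
  K : ℕ → C
  L : ℕ → C
  mem : ∀ n, P₀ (L n)
  ι : ∀ n, K (n + 1) ⟶ L n
  p : ∀ n, L n ⟶ K n
  w : ∀ n, ι n ≫ p n = 0
  shortExact : ∀ n, (ShortComplex.mk (ι n) (p n) (w n)).ShortExact

namespace Steps

variable {P₀ : ObjectProperty C} (D : Steps P₀)

/-- The resolution. -/
noncomputable def complex : ChainComplex C ℕ :=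
  ChainComplex.of D.L (fun n => D.p (n + 1) ≫ D.ι n) (fun n => by
    rw [assoc, ← assoc (D.ι _), D.w, zero_comp, comp_zero])

theorem complex_d (n : ℕ) : D.complex.d (n + 1) n = D.p (n + 1) ≫ D.ι n := by
  simp [complex, ChainComplex.of]

theorem comp_d_eq_zero_iff (n : ℕ) {A : C} (g : A ⟶ D.L (n + 1)) :
    g ≫ D.complex.d (n + 1) n = 0 ↔ g ≫ D.p (n + 1) = 0 := by
  have := (D.shortExact n).mono_f
  have e : g ≫ D.complex.d (n + 1) n = (g ≫ D.p (n + 1)) ≫ D.ι n :=
    (congrArg (fun t => g ≫ t) (D.complex_d n)).trans (assoc _ _ _).symm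
  exact ⟨fun h => (cancel_mono (D.ι n)).mp ((e.symm.trans h).trans zero_comp.symm),
    fun h => e.trans ((congrArg (fun t => t ≫ D.ι n) h).trans zero_comp)⟩

theorem exactAt (n : ℕ) : D.complex.ExactAt (n + 1) := by
  rw [HomologicalComplex.exactAt_iff' _ (n + 2) (n + 1) n (by simp) (by simp),
    ShortComplex.exact_iff_exact_up_to_refinements]
  intro A (x : A ⟶ D.L (n + 1)) hx
  have := (D.shortExact (n + 2)).epi_g
  obtain ⟨A₁, π, hπ, y, hy⟩ := (D.shortExact (n + 1)).exact.exact_up_to_refinements x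
    ((D.comp_d_eq_zero_iff n x).mp hx)
  obtain ⟨A₂, π', hπ', z, hz⟩ := surjective_up_to_refinements_of_epi (D.p (n + 2)) y
  refine ⟨A₂, π' ≫ π, inferInstance, z, ?_⟩
  refine (assoc _ _ _).trans (((congrArg (π' ≫ ·) hy).trans ?_).trans (congrArg (fun t => z ≫ t) (D.complex_d (n + 1))).symm)
  show π' ≫ (y ≫ D.ι (n + 1)) = z ≫ (D.p (n + 2) ≫ D.ι (n + 1))
  rw [← assoc, hz, assoc]

theorem nonempty_homologyIso : Nonempty (D.complex.homology 0 ≅ D.K 0) := by
  have := (D.shortExact 0).epi_g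
  have := (D.shortExact 1).epi_g
  have h0 : D.complex.d 1 0 ≫ D.p 0 = 0 := by
    rw [D.complex_d 0]
    exact (assoc _ _ _).trans ((congrArg (fun t => D.p 1 ≫ t) (D.w 0)).trans comp_zero)
  have hex : (ShortComplex.mk (D.complex.d 1 0) (D.p 0) h0).Exact := by
    rw [ShortComplex.exact_iff_exact_up_to_refinements]
    intro A x hx
    obtain ⟨A₁, π, hπ, y, hy⟩ := (D.shortExact 0).exact.exact_up_to_refinements x hx
    obtain ⟨A₂, π', hπ', z, hz⟩ := surjective_up_to_refinements_of_epi (D.p 1) y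
    refine ⟨A₂, π' ≫ π, inferInstance, z, ?_⟩
    refine (assoc _ _ _).trans (((congrArg (π' ≫ ·) hy).trans ?_).trans (congrArg (fun t => z ≫ t) (D.complex_d 0)).symm)
    show π' ≫ (y ≫ D.ι 0) = z ≫ (D.p 1 ≫ D.ι 0)
    rw [← assoc, hz, assoc]
  have : Epi (ShortComplex.mk (D.complex.d 1 0) (D.p 0) h0).g := ‹Epi (D.p 0)›
  exact ⟨D.complex.isoHomologyι₀ ≪≫
    IsColimit.coconePointUniqueUpToIso (D.complex.opcyclesIsCokernel 1 0 (by simp)) hex.gIsCokernel⟩

theorem nonempty_cyclesIso (n : ℕ) : Nonempty (D.complex.cycles (n + 1) ≅ D.K (n + 2)) := by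
  have := (D.shortExact n).mono_f
  have h := (D.shortExact (n + 1)).fIsKernel
  have h1 : IsLimit (KernelFork.ofι (D.ι (n + 1)) (show D.ι (n + 1) ≫ D.complex.d (n + 1) n = 0 from
      (D.comp_d_eq_zero_iff n _).mpr (D.w (n + 1)))) :=
    KernelFork.IsLimit.ofι _ _
      (fun g hg => h.lift (KernelFork.ofι g (show g ≫ D.p (n + 1) = 0 from (D.comp_d_eq_zero_iff n g).mp hg)))
      (fun g hg => h.fac _ WalkingParallelPair.zero)
      (fun g hg m hm => by
        have := (D.shortExact (n + 1)).mono_f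
        refine (cancel_mono (ShortComplex.mk (D.ι (n + 1)) (D.p (n + 1)) (D.w (n + 1))).f).mp ?_
        exact hm.trans (h.fac (KernelFork.ofι g _) WalkingParallelPair.zero).symm)
  exact ⟨IsLimit.conePointUniqueUpToIso (D.complex.cyclesIsKernel (n + 1) n (by simp)) h1⟩

/-- Prepend one step. -/
noncomputable def cons {L A : C} (hL : P₀ L) (p : L ⟶ A) [Epi p] (e : D.K 0 ≅ kernel p) : Steps P₀ where
  K := fun n => match n with
    | 0 => A
    | n + 1 => D.K n
  L := fun n => match n with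
    | 0 => L
    | n + 1 => D.L n
  mem := fun n => match n with
    | 0 => hL
    | n + 1 => D.mem n
  ι := fun n => match n with
    | 0 => e.hom ≫ kernel.ι p
    | n + 1 => D.ι n
  p := fun n => match n with
    | 0 => p
    | n + 1 => D.p n
  w := fun n => match n with
    | 0 => by simp
    | n + 1 => D.w n
  shortExact := fun n => match n with
    | 0 => by
      refine ShortComplex.shortExact_of_iso
        (ShortComplex.isoMk (S₁ := ShortComplex.mk (kernel.ι p) p (kernel.condition p)) e.symm (Iso.refl _)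
          (Iso.refl _) (by simp) (by simp)) ?_
      exact { exact := ShortComplex.exact_of_f_is_kernel _ (kernelIsKernel p) }
    | n + 1 => D.shortExact n

end Steps

end Groth.Agent.K0Res3
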